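import Mathlib
import Cfsg.Agent.Class.C6P.InstLU

set_option autoImplicit false

namespace Cfsg.Agent.Class.Tab

/-- Class `C₆`, `r = 2`, linear case. -/
theorem c6_sl_two {F : Type*} [Field F] [Fintype F] {n p : ℕ} (hp : p.Prime)
    (hF : Fintype.card F = p) (h4 : p % 4 = 1) (hn : n = 4 ∨ n = 8) (R : Subgroup (GL (Fin n) F))
    (hR : Geo.IsLinearSymplecticTypeData 2 R) :
    Geo.IsMaximalIn (Geo.specialLinear (Fin n) F)
      (Geo.subgroupNormalizer R ⊓ Geo.specialLinear (Fin n) F) := by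
  obtain ⟨_, _, -, -, h | h | h⟩ := hR.field
  · exact absurd h.1 (by decide)
  · exact C6P.sl_isMaximalIn hp hF h4 h.2.2.2.1 hR.symplecticType hR.absIrred h.2.2.1
  · have := h.2.2.1
    rw [Fintype.card_fin] at this
    omega

end Cfsg.Agent.Class.Tab
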