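import Mathlib
import Cfsg.Agent.Class.C6P.InstLU

set_option autoImplicit false

namespace Cfsg.Agent.Class.Tab

/-- Class `C₆`, `r = 2`, unitary case. -/
theorem c6_su_two {F : Type*} [Field F] [Fintype F] {n q : ℕ} (hF : Fintype.card F = q ^ 2)
    (hp : q.Prime) (h4 : q % 4 = 3) (R : Subgroup (GL (Fin n) F))
    (hn : (n = 4 ∧ Nat.card R = 64) ∨ (n = 8 ∧ Nat.card R = 256))
    (hR : Geo.IsSymplecticTypeGroup 2 R) (hirr : Geo.ActsAbsolutelyIrreducibly (Geo.matrixSet R))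
    (hle : R ≤ GU n F q) (hZ : Nat.card (Subgroup.center R) = 4) :
    Geo.IsMaximalIn (GU n F q ⊓ Geo.specialLinear (Fin n) F)
      (Geo.subgroupNormalizer R ⊓ (GU n F q ⊓ Geo.specialLinear (Fin n) F)) :=
  C6P.su_isMaximalIn hF hp (by omega) (by omega) hR hirr hle hZ

end Cfsg.Agent.Class.Tab
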