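import Mathlib
import Cfsg.Agent.Class.Max.Bridge
import Cfsg.Agent.Class.Tab.Sp4Fr
import Cfsg.Agent.Class.C6.Two
import Cfsg.Agent.Class.Asch.SpProp

set_option autoImplicit false

namespace Cfsg.Agent.Class.Tab

open Matrix Cfsg.Agent.Class.Max Cfsg.Agent.Class.C6

namespace Sp4Cl

variable {F : Type*} [Field F]

/-- The index type. -/
abbrev I4 := Fin 2 ⊕ Fin 2

/-- The adjoint for the standard symplectic form. -/
def adj : Matrix I4 I4 F →ₗ[F] Matrix I4 I4 F where
  toFun A := -(J (Fin 2) F * Aᵀ * J (Fin 2) F)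
  map_add' A B := by simp only [transpose_add, mul_add, add_mul, neg_add]
  map_smul' c A := by simp

theorem adj_mul (A B : Matrix I4 I4 F) : adj (A * B) = adj B * adj A := by
  change -(_ * _ * _) = -(_ * _ * _) * -(_ * _ * _)
  simp only [mul_assoc, ← mul_assoc (J (Fin 2) F) (J (Fin 2) F), J_squared,
    transpose_mul, neg_mul, one_mul, mul_neg, neg_neg]

theorem adj_one : adj (1 : Matrix I4 I4 F) = 1 := by
  change -(_ * _ * _) = _
  simp [J_squared]

theorem mem_iff {g : GL I4 F} : g ∈ spGL 2 F ↔ adj g.1 * g.1 = 1 := by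
  rw [Sp.mem_spGL_iff]
  refine ⟨fun h => (neg_mul _ _).trans (SymplecticGroup.inv_left_mul_aux h), fun h => SymplecticGroup.mem_iff'.2 ?_⟩
  have := congrArg (J (Fin 2) F * ·) h
  change _ * (-(_ * _ * _) * _) = _ at this
  simpa [← mul_assoc, J_squared] using this

theorem adj_eq {g : GL I4 F} (hg : g ∈ spGL 2 F) : adj g.1 = g⁻¹.1 := by
  rw [← mul_one (adj g.1), ← g.mul_inv, ← mul_assoc, mem_iff.1 hg, one_mul]

theorem sq_eq_one {g k : GL I4 F} (hg : g ∈ spGL 2 F) (hk : k ∈ spGL 2 F) {c : F}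
    (e : g.1 = c • k.1) : g = k ∨ g = -k := by
  have := mem_iff.1 hg
  rw [e, map_smul, smul_mul_smul_comm, mem_iff.1 hk] at this
  have h1 := congrFun (congrFun this (.inl 0)) (.inl 0)
  simp only [Matrix.smul_apply, one_apply_eq, smul_eq_mul, mul_one] at h1
  rcases mul_self_eq_one_iff.1 h1 with rfl | rfl
  · exact Or.inl (Units.ext (by simpa using e))
  · exact Or.inr (Units.ext (by simpa using e))

/-- Five anticommuting involutions. -/
structure Cl (E : Fin 5 → GL I4 F) : Prop where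
  two : (2 : F) ≠ 0
  sq : ∀ i, (E i).1 * (E i).1 = 1
  anti : ∀ i j, i ≠ j → (E i).1 * (E j).1 = -((E j).1 * (E i).1)
  cent : ∀ T : Matrix I4 I4 F, (∀ i : Fin 4, T * (E i.castSucc).1 = (E i.castSucc).1 * T) →
    ∃ c : F, T = c • 1
  sp : ∀ i, E i ∈ spGL 2 F

theorem exists_cl [Finite F] {R : Subgroup (GL I4 F)} (h : TwoG R) (hm : Geo.IsOfMinusType 2 R)
    (hle : R ≤ spGL 2 F) : ∃ E, Cl E ∧ ∀ i, E i ∈ R := by
  obtain ⟨a, b, c, d, k⟩ := h.exists_chain_minus hm
  have m : ∀ i, ![b * d, a * (b * d), a * d, a * (c * d), a * c] i ∈ R := fun i => by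
    fin_cases i <;> simp [R.mul_mem, k.ma, k.mb, k.mc, k.md]
  refine ⟨_, ⟨h.two, fun i => ?_, fun i j hij => ?_, fun T hT => ?_, fun i => hle (m i)⟩, m⟩
  rotate_left 2
  · have t0 : T * (b * d : GL I4 F) = (b * d : GL I4 F) * T := hT 0
    have t1 : T * (a * (b * d) : GL I4 F) = (a * (b * d) : GL I4 F) * T := hT 1
    have t2 : T * (a * d : GL I4 F) = (a * d : GL I4 F) * T := hT 2
    have t3 : T * (a * (c * d) : GL I4 F) = (a * (c * d) : GL I4 F) * T := hT 3
    have r : ∀ {u v : GL I4 F}, T * v = v * T → T * (u * v : GL I4 F) = (u * v : GL I4 F) * T →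
        T * u = u * T := fun {u v} h1 h2 => by
      rw [← Units.mul_left_inj v, mul_assoc, ← Units.val_mul, h2, Units.val_mul, mul_assoc, ← h1,
        mul_assoc]
    have ta := r t0 t1
    have td := comm_of_mul_left ta t2
    exact k.cent T ta (r td t0) (r td (comm_of_mul_left ta t3)) td
  all_goals
    have l : ∀ {x y z : GL I4 F}, x * y = z → x.1 * y.1 = z.1 ∧ ∀ A, x.1 * (y.1 * A) = z.1 * A :=
      fun e => ⟨congrArg Units.val e, fun A => by rw [← mul_assoc, ← Units.val_mul, e]⟩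
    have s := And.intro (l k.sa) (And.intro (l k.sb) (And.intro (l k.sc) (And.intro (l k.sd)
      (And.intro (l k.ab) (And.intro (l k.bc) (And.intro (l k.cd) (And.intro (l k.ac)
        (And.intro (l k.ad) (l k.bd)))))))))
  · fin_cases i <;> simp [mul_assoc, s]
  · fin_cases i <;> fin_cases j <;> simp [mul_assoc, s] at hij ⊢

variable {E : Fin 5 → GL I4 F}

variable (E) in
/-- The Clifford map. -/
def φ : (Fin 5 → F) →ₗ[F] Matrix I4 I4 F := Fintype.linearCombination F fun i => (E i).1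

theorem φ_apply (x : Fin 5 → F) : φ E x = ∑ i, x i • (E i).1 := rfl

theorem φ_single (i : Fin 5) : φ E (Pi.single i 1) = (E i).1 := by
  simp [φ_apply, Pi.single_apply]

/-- The sign attached to a Boolean. -/
def sg (b : Bool) : F := if b then -1 else 1

namespace Cl

variable (h : Cl E)
include h

theorem E_inv (i : Fin 5) : (E i)⁻¹ = E i := inv_eq_of_mul_eq_one_right (Units.ext (h.sq i))

theorem adj_E (i : Fin 5) : adj (E i).1 = (E i).1 := by rw [adj_eq (h.sp i), h.E_inv]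

theorem adj_φ (x : Fin 5 → F) : adj (φ E x) = φ E x := by simp [φ_apply, h.adj_E]

theorem ac_E (i : Fin 5) (x : Fin 5 → F) : (E i).1 * φ E x + φ E x * (E i).1 = (2 * x i) • 1 := by
  rw [φ_apply, Finset.mul_sum, Finset.sum_mul, ← Finset.sum_add_distrib, Finset.sum_eq_single i
    (fun j _ e => by simp [h.anti j i e]) (by simp)]
  simp [h.sq, two_mul, add_smul]

theorem ac (a x : Fin 5 → F) : φ E a * φ E x + φ E x * φ E a = (2 * ∑ i, a i * x i) • 1 := by
  rw [φ_apply a, Finset.mul_sum, Finset.sum_mul, ← Finset.sum_add_distrib, Finset.mul_sum,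
    Finset.sum_smul]
  refine Finset.sum_congr rfl fun i _ => ?_
  rw [smul_mul_assoc, mul_smul_comm, ← smul_add, h.ac_E, smul_smul, mul_left_comm]

theorem φ_sq (a : Fin 5 → F) : φ E a * φ E a = (∑ i, a i * a i) • 1 := by
  have := h.ac a a
  rw [← two_smul F, mul_smul] at this
  exact smul_right_injective _ h.two this

theorem φ_inj : Function.Injective (φ E) := (injective_iff_map_eq_zero _).2 fun x e =>
  funext fun i => by
    have := congrFun (congrFun (h.ac_E i x) (.inl 0)) (.inl 0)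
    simpa [e, h.two] using this.symm

theorem trace_φ (x : Fin 5 → F) : (φ E x).trace = 0 := by
  have : ∀ i, (E i).1.trace = 0 := fun i => by
    obtain ⟨j, hj⟩ := exists_ne i
    have := congrArg (fun A => (A * (E j).1).trace) (h.anti j i hj)
    simp only [neg_mul, trace_neg, mul_assoc, h.sq, mul_one] at this
    rw [trace_mul_comm, mul_assoc, h.sq, mul_one] at this
    exact (mul_eq_zero.1 (by linear_combination this)).resolve_left h.two
  simp [φ_apply, this]

theorem sg_E (i k : Fin 5) : (E k).1 * (E i).1 = (sg (i != k) : F) • ((E i).1 * (E k).1) := by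
  by_cases e : i = k
  · simp [sg, e]
  · simp [sg, e, h.anti k i (Ne.symm e)]

theorem pat {A : Matrix I4 I4 F} {P : GL I4 F} {ε : Fin 4 → F}
    (hA : ∀ i : Fin 4, A * (E i.castSucc).1 = ε i • ((E i.castSucc).1 * A))
    (hP : ∀ i : Fin 4, P.1 * (E i.castSucc).1 = ε i • ((E i.castSucc).1 * P.1)) :
    ∃ c : F, A = c • P.1 := by
  obtain ⟨c, hc⟩ := h.cent (P⁻¹.1 * A) fun i => by
    rw [← Units.mul_right_inj P, mul_assoc, Units.mul_inv_cancel_left, hA, ← mul_assoc, hP,
      smul_mul_assoc, mul_assoc, Units.mul_inv_cancel_left]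
  exact ⟨c, by rw [← mul_one P.1, ← mul_smul_comm, ← hc, Units.mul_inv_cancel_left]⟩

theorem cases {A : Matrix I4 I4 F} (hA : ∀ i : Fin 4, ∃ b : Bool,
    A * (E i.castSucc).1 = (sg b : F) • ((E i.castSucc).1 * A)) :
    ∃ c : F, A = c • 1 ∨ (∃ k, A = c • (E k).1) ∨ ∃ k l, k ≠ l ∧ A = c • (E k * E l).1 := by
  choose b hb using hA
  have : (∀ i, b i = false) ∨ (∃ k : Fin 5, ∀ i, b i = (i.castSucc != k)) ∨
      ∃ k l : Fin 5, k ≠ l ∧ ∀ i, b i = xor (i.castSucc != k) (i.castSucc != l) := by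
    clear hb; revert b; decide
  rcases this with e | ⟨k, e⟩ | ⟨k, l, hkl, e⟩
  · obtain ⟨c, hc⟩ := h.pat (P := 1) hb fun i => by simp [e, sg]
    exact ⟨c, Or.inl hc⟩
  · obtain ⟨c, hc⟩ := h.pat (P := E k) hb fun i => by rw [e, h.sg_E]
    exact ⟨c, Or.inr (Or.inl ⟨k, hc⟩)⟩
  · obtain ⟨c, hc⟩ := h.pat (P := E k * E l) hb fun i => by
      rw [e, Units.val_mul, mul_assoc, h.sg_E _ l, mul_smul_comm, ← mul_assoc, h.sg_E _ k,
        smul_mul_assoc, smul_smul, mul_assoc]
      congr 1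
      cases i.castSucc != k <;> cases i.castSucc != l <;> simp [sg]
    exact ⟨c, Or.inr (Or.inr ⟨k, l, hkl, hc⟩)⟩

theorem exists_φ {A : Matrix I4 I4 F} (h1 : adj A = A) (h2 : A.trace = 0) : ∃ x, φ E x = A := by
  have key : ∀ T : Finset (Fin 4), ∀ A : Matrix I4 I4 F, (∀ i ∉ T, ∃ b : Bool,
      A * (E i.castSucc).1 = (sg b : F) • ((E i.castSucc).1 * A)) →
      ∃ (c : F) (x : Fin 5 → F), A + adj A = c • 1 + φ E x := fun T => by
    induction T using Finset.induction_on with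
    | empty =>
      intro A hA
      obtain ⟨c, rfl | ⟨k, rfl⟩ | ⟨k, l, hkl, rfl⟩⟩ := h.cases fun i => hA i (by simp)
      · exact ⟨c + c, 0, by simp [adj_one, add_smul]⟩
      · exact ⟨0, (c + c) • Pi.single k 1, by
          rw [map_smul, map_smul, φ_single, h.adj_E, add_smul, zero_smul, zero_add]⟩
      · exact ⟨0, 0, by simp [adj_mul, h.adj_E, h.anti k l hkl]⟩
    | insert k T hk ih =>
      intro A hA
      have : ∀ b : Bool, ∃ (c : F) (x : Fin 5 → F), (A + (sg b : F) • ((E k.castSucc).1 * A *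
          (E k.castSucc).1)) + adj (A + (sg b : F) • ((E k.castSucc).1 * A * (E k.castSucc).1)) =
            c • 1 + φ E x := fun b => ih _ fun i hi => by
        by_cases e : i = k
        · refine ⟨b, ?_⟩
          rw [e]
          cases b <;> simp [sg, add_mul, mul_add, mul_assoc, h.sq, ← mul_assoc (E _).1 (E _).1,
            add_comm]
        obtain ⟨b', hb'⟩ := hA i (by simp [e, hi])
        have e' := h.anti _ _ (Fin.castSucc_injective _ |>.ne (Ne.symm e))
        refine ⟨b', ?_⟩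
        rw [add_mul, mul_add, smul_add, hb', smul_mul_assoc, mul_assoc, mul_assoc, e', mul_neg,
          ← mul_assoc A, hb', smul_mul_assoc, mul_neg, mul_smul_comm, ← mul_assoc, ← mul_assoc, e']
        simp [mul_assoc, smul_comm (sg b)]
      obtain ⟨c, x, e⟩ := this true
      obtain ⟨c', x', e'⟩ := this false
      refine ⟨2⁻¹ * (c + c'), (2 : F)⁻¹ • (x + x'), smul_right_injective _ h.two ?_⟩
      simp only [sg, map_add, map_smul, smul_add, smul_smul, ← mul_assoc, mul_inv_cancel₀ h.two,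
        one_mul, one_smul, if_true, Bool.false_eq_true, if_false] at e e' ⊢
      linear_combination (norm := module) e + e'
  obtain ⟨c, x, e⟩ := key Finset.univ A (by simp)
  have h3 := congrArg trace e
  simp only [h1, trace_add, h2, trace_smul, trace_one, h.trace_φ, add_zero, smul_eq_mul] at h3
  have h4 : c = 0 := by
    have : c * (2 * 2) = 0 := by rw [h3]; simp; norm_num
    simpa [h.two] using this
  refine ⟨(2 : F)⁻¹ • x, smul_right_injective _ h.two ?_⟩
  simp only [h4, zero_smul, zero_add, h1] at e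
  simp [smul_smul, h.two, ← e, two_smul]

theorem exists_conj {Φ : Fm F (Fin 5 → F)} (hO : Φ.IsO) (hS : Std Φ) {g : GL I4 F}
    (hg : g ∈ spGL 2 F) : ∃ k ∈ Φ.Iso, ∀ x, g.1 * φ E x = φ E (k x) * g.1 := by
  choose w hw using fun i => h.exists_φ (A := g.1 * (E i).1 * g⁻¹.1)
    (by rw [adj_mul, adj_mul, adj_eq hg, adj_eq (Subgroup.inv_mem _ hg), h.adj_E, inv_inv, mul_assoc])
    (by rw [trace_mul_cycle, Units.inv_mul, one_mul, ← φ_single, h.trace_φ])
  let f := Fintype.linearCombination F w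
  have hf : ∀ x, φ E (f x) = g.1 * φ E x * g⁻¹.1 := fun x => by
    simp [f, Fintype.linearCombination_apply, hw, φ_apply x, Finset.mul_sum, Finset.sum_mul]
  have hQ : ∀ x, Φ.Q (f x) = Φ.Q x := fun x => by
    have := h.φ_sq (f x)
    simp only [hf, mul_assoc, Units.inv_mul_cancel_left, ← mul_assoc (φ E x) (φ E x), h.φ_sq,
      smul_mul_assoc, one_mul, mul_smul_comm, Units.mul_inv] at this
    simpa [hS.Q] using (congrFun (congrFun this (.inl 0)) (.inl 0)).symm
  refine ⟨LinearEquiv.ofInjectiveEndo f fun x y e => h.φ_inj ?_, ⟨fun x y => ?_, hQ⟩, fun x => ?_⟩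
  · simpa only [hf, Units.mul_left_inj, Units.mul_right_inj] using congrArg (φ E) e
  · change Φ.B (f x) (f y) = _
    have := hQ (x + y)
    rw [map_add] at this
    linear_combination hO.Q_add x y - hO.Q_add (f x) (f y) + this - hQ x - hQ y
  · change _ = φ E (f x) * _
    rw [hf, Units.inv_mul_cancel_right]

theorem φ_r {Φ : Fm F (Fin 5 → F)} (hO : Φ.IsO) (hS : Std Φ) {a : Fin 5 → F} (ha : Φ.Q a ≠ 0)
    (x : Fin 5 → F) : φ E a * φ E x = -(φ E (hO.r a x) * φ E a) := by
  rw [hO.r_apply, map_sub, map_smul, sub_mul, smul_mul_assoc, h.φ_sq, ← hS.Q, smul_smul,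
    eq_sub_of_add_eq (h.ac a x), ← hS.B, neg_sub]
  congr 2
  field_simp

variable {R : Subgroup (GL I4 F)} (hT : TwoG R) (hle : R ≤ spGL 2 F) (hE : ∀ i, E i ∈ R)
include hT hle hE

theorem mem_normalizer [Finite F] {g : GL I4 F} (hg : ∀ i, g * E i * g⁻¹ ∈ R) :
    g ∈ Geo.subgroupNormalizer R := by
  refine Subgroup.mem_normalizer_fintype fun r hr => ?_
  have key : ∀ P ∈ spGL 2 F, g * P * g⁻¹ ∈ R → ∀ c : F, r.1 = c • P.1 → g * r * g⁻¹ ∈ R :=
    fun P h1 h2 c e => by
      rcases sq_eq_one (hle hr) h1 e with rfl | rfl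
      · exact h2
      · simpa using hT.neg_mem h2
  obtain ⟨c, e | ⟨k, e⟩ | ⟨k, l, -, e⟩⟩ := h.cases (A := r.1) fun i =>
    (hT.comm r hr _ (hE i.castSucc)).elim (fun e => ⟨false, by simpa [sg] using congrArg Units.val e⟩)
      fun e => ⟨true, by simpa [sg] using congrArg Units.val e⟩
  · exact key 1 (one_mem _) (by simp) c e
  · exact key _ (h.sp k) (hg k) c e
  · exact key _ (mul_mem (h.sp k) (h.sp l)) (by simpa [mul_assoc] using R.mul_mem (hg k) (hg l)) c e

end Cl

variable (E) in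
/-- The isometries induced, up to sign, by `M`. -/
def KM (Φ : Fm F (Fin 5 → F)) (M : Subgroup (GL I4 F)) :
    Subgroup ((Fin 5 → F) ≃ₗ[F] (Fin 5 → F)) where
  carrier := {k | k ∈ Φ.Iso ∧ ∃ g ∈ M, ∃ ε : F, ε * ε = 1 ∧
    ∀ x, g.1 * φ E x = ε • (φ E (k x) * g.1)}
  mul_mem' := by
    rintro k k' ⟨h1, g, hg, ε, e1, e2⟩ ⟨h1', g', hg', ε', e1', e2'⟩
    refine ⟨mul_mem h1 h1', g * g', mul_mem hg hg', ε' * ε, by
      linear_combination ε' * ε' * e1 + e1', fun x => ?_⟩
    rw [Units.val_mul, mul_assoc, e2', mul_smul_comm, ← mul_assoc, e2, smul_mul_assoc, smul_smul,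
      mul_assoc, mul_app]
  one_mem' := ⟨one_mem _, 1, one_mem _, 1, one_mul _, fun x => by simp⟩
  inv_mem' := by
    rintro k ⟨h1, g, hg, ε, e1, e2⟩
    refine ⟨inv_mem h1, g⁻¹, inv_mem hg, ε, e1, fun x => ?_⟩
    have := congrArg (fun A => ε • (g⁻¹.1 * A * g⁻¹.1)) (e2 (k⁻¹ x))
    simp only [app_inv_app, mul_smul_comm, smul_mul_assoc, smul_smul, e1, one_smul,
      mul_assoc, Units.mul_inv, mul_one, Units.inv_mul_cancel_left] at this
    exact this.symm

namespace Cl

variable (h : Cl E) {Φ : Fm F (Fin 5 → F)} (hO : Φ.IsO) (hS : Std Φ) {M : Subgroup (GL I4 F)}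
include h hS

theorem mem_of_r (hM : M ≤ spGL 2 F) (h1 : -1 ∈ M) {w : Fin 5 → F} (q : Φ.Q w = 1)
    (hw : hO.r w ∈ KM E Φ M) {y : GL I4 F} (hy : y ∈ spGL 2 F) (e : y.1 = φ E w) : y ∈ M := by
  obtain ⟨-, g, hg, ε, e1, e2⟩ := hw
  have e3 : ∀ x, (y⁻¹ * g).1 * φ E x = (-ε) • (φ E x * (y⁻¹ * g).1) := fun x => by
    rw [← Units.mul_right_inj y, Units.val_mul, mul_assoc, Units.mul_inv_cancel_left, e2,
      mul_smul_comm, ← mul_assoc, ← mul_assoc, e, h.φ_r hO hS (by simp [q]), ← e]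
    simp [mul_assoc]
  have m := mul_mem (inv_mem hy) (hM hg)
  rcases mul_self_eq_one_iff.1 e1 with rfl | rfl
  · obtain ⟨c, hc⟩ := h.pat (P := E 4) (ε := fun _ => -1) (A := (y⁻¹ * g).1)
      (fun i => by simpa only [φ_single] using e3 (Pi.single i.castSucc 1))
      fun i => by simpa using h.anti _ _ (Fin.castSucc_lt_last i).ne'
    have := congrFun (congrFun (e3 (Pi.single 4 1)) (.inl 0)) (.inl 0)
    rcases sq_eq_one m (h.sp 4) hc with e | e <;> simp [e, φ_single, h.sq] at this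
    · exact absurd (by linear_combination this) h.two
    · exact absurd (by linear_combination -this) h.two
  · obtain ⟨c, hc⟩ := h.cent (y⁻¹ * g).1 fun i => by simpa [φ_single] using e3 (Pi.single i.castSucc 1)
    rcases sq_eq_one m (one_mem _) hc with e | e <;> rw [inv_mul_eq_iff_eq_mul] at e
    · simpa [e] using hg
    · simpa [e] using mul_mem hg h1

theorem fr [Finite F] {R : Subgroup (GL I4 F)} (hT : TwoG R) (hle : R ≤ spGL 2 F) (hE : ∀ i, E i ∈ R)
    (hM : Geo.subgroupNormalizer R ⊓ spGL 2 F ≤ M) : Fr hO (KM E Φ M) := by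
  have h2 := h.two
  refine ⟨hS, fun _ hk => hk.1, fun i => ⟨hO.r_mem_Iso _, E i,
    hM ⟨Subgroup.le_normalizer (hE i), h.sp i⟩, -1, by simp, fun x => by
      rw [← φ_single, h.φ_r hO hS (by simp [hS.Q_e]), neg_one_smul]⟩, fun i j k l hij hkl => ?_⟩
  have qa := hS.Q_sub hO hij
  have qb := hS.Q_sub hO hkl
  have ra := hS.r_swap (hO := hO) hij
  have rb := hS.r_swap (hO := hO) hkl
  generalize (Pi.single i 1 - Pi.single j 1 : Fin 5 → F) = a at qa ra ⊢
  generalize (Pi.single k 1 - Pi.single l 1 : Fin 5 → F) = b at qb rb ⊢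
  have key : ∀ a b, Φ.Q a = 2 → Φ.Q b = 2 →
      (2 : F)⁻¹ • (φ E a * φ E b) * ((2 : F)⁻¹ • (φ E b * φ E a)) = 1 := fun a b qa qb => by
    rw [smul_mul_smul_comm, mul_assoc, ← mul_assoc (φ E b), h.φ_sq, ← hS.Q, qb, smul_mul_assoc, one_mul,
      mul_smul_comm, h.φ_sq, ← hS.Q, qa, smul_smul, smul_smul]
    simp [h2]
  let g : GL I4 F := ⟨_, _, key a b qa qb, key b a qb qa⟩
  have e : ∀ x, g.1 * φ E x = φ E ((hO.r a * hO.r b) x) * g.1 := fun x => by
    change _ • _ * _ = _ * _ • _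
    rw [smul_mul_assoc, mul_smul_comm, mul_assoc, h.φ_r hO hS (by simp [qb, h2]), mul_neg, ← mul_assoc,
      h.φ_r hO hS (by simp [qa, h2]), neg_mul, neg_neg, mul_assoc, mul_app]
  refine ⟨mul_mem (hO.r_mem_Iso _) (hO.r_mem_Iso _), g, hM ⟨h.mem_normalizer hT hle hE fun t => ?_,
    mem_iff.2 ?_⟩, 1, one_mul _, fun x => by rw [one_smul, e]⟩
  · convert hE (Equiv.swap i j (Equiv.swap k l t)) using 1
    refine mul_inv_eq_iff_eq_mul.2 (Units.ext ?_)
    rw [Units.val_mul, ← φ_single, e, mul_app, ra, rb, Units.val_mul, ← φ_single]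
    congr 2
    funext u
    simp [Pi.single_apply, Equiv.swap_apply_eq_iff]
  · change adj (_ • _) * _ = _
    rw [map_smul, adj_mul, h.adj_φ, h.adj_φ]
    exact key b a qb qa

end Cl

end Sp4Cl

open Sp4Cl Asch in
/-- Class `C₆` in `Sp_4`. -/
theorem c6_sp4 {F : Type*} [Field F] [Fintype F] {p : ℕ} (hp : p.Prime) (ho : Odd p)
    (hF : Fintype.card F = p) (R : Subgroup (GL (Fin 2 ⊕ Fin 2) F))
    (hR : Geo.IsSymplecticTypeGroup 2 R) (hirr : Geo.ActsAbsolutelyIrreducibly (Geo.matrixSet R))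
    (hle : R ≤ spGL 2 F) (hc : Nat.card R = 32) (hZ : Nat.card (Subgroup.center R) = 2)
    (hm : Geo.IsOfMinusType 2 R) :
    Geo.IsMaximalIn (spGL 2 F) (Geo.subgroupNormalizer R ⊓ spGL 2 F) := by
  have := Fact.mk hp
  have hF' : ∀ a : F, ∃ n : ℕ, a = n := fun a =>
    ⟨((ZMod.ringEquivOfPrime F hp hF).symm a).val, by
      rw [← map_natCast (ZMod.ringEquivOfPrime F hp hF), ZMod.natCast_zmod_val,
        RingEquiv.apply_symm_apply]⟩
  have h2 : (2 : F) ≠ 0 := Ring.two_ne_zero fun e => by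
    have := FiniteField.even_card_of_char_two e
    rw [hF, Nat.odd_iff.1 ho] at this
    omega
  have hT := twoG_of h2 (by simp) hR hirr (k := 1) hc hZ
  obtain ⟨E, h, hE⟩ := exists_cl hT hm hle
  obtain ⟨Φ, hO, hS⟩ := exists_std h2
  have hQ : QS (spGL 2 F) := qs_Sp (by norm_num) (Or.inr (Or.inl ⟨rfl, by
    have := hp.two_le
    have := Nat.odd_iff.1 ho
    omega⟩))
  have ns : E 0 ∉ Geo.scalars _ F := fun e => by
    obtain ⟨c, hc⟩ := (Geo.mem_scalars_iff _).1 e
    exact hT.not_comm (Units.ext (h.anti 0 1 (by decide))) (Units.ext (by simp [hc]))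
  refine isMaximalIn_of inf_le_right ?_ fun M h1 h3 g hg hg' => ?_
  · by_contra hc
    push Not at hc
    rcases hQ.simple R ⟨hle, fun g hg x hx =>
      (Subgroup.mem_normalizer_iff.1 (hc _ hg).1 x).1 hx⟩ with e | e
    · exact ns (e (hE 0))
    · have := Fact.mk Nat.prime_two
      have := hR.pGroup.isNilpotent
      have : Nontrivial R := ⟨⟨_, hE 0⟩, 1, fun e => ns (by
        rw [show E 0 = 1 from congrArg Subtype.val e]; exact one_mem _)⟩
      have := Subgroup.map_subtype_lt_map_subtype.2 (Group.IsSolvable.commutator_lt_top_of_nontrivial R)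
      rw [Subgroup.map_subtype_commutator, ← MonoidHom.range_eq_map, R.range_subtype, e] at this
      exact this.ne hQ.perfect
  have hK := h.fr hO hS hT hle hE h1
  obtain ⟨k, hk, e⟩ := h.exists_conj hO hS (h3 hg)
  obtain ⟨i, hi⟩ : ∃ i, ∀ j, k (Pi.single i 1) ≠ Pi.single j 1 ∧
      k (Pi.single i 1) ≠ -Pi.single j 1 := by
    by_contra hc
    simp only [not_exists, not_forall, not_and_or, not_not] at hc
    refine hg' ⟨h.mem_normalizer hT hle hE fun i => ?_, h3 hg⟩
    have := e (Pi.single i 1)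
    obtain ⟨j, e | e⟩ := hc i <;> rw [e] at this
    · convert hE j using 1
      exact mul_inv_eq_iff_eq_mul.2 (Units.ext (by simpa [φ_single] using this))
    · convert hT.neg_mem (hE j) using 1
      exact mul_inv_eq_iff_eq_mul.2 (Units.ext (by simpa [φ_single] using this))
  let N : Subgroup (GL (Fin 2 ⊕ Fin 2) F) :=
    { carrier := {x | x ∈ spGL 2 F ∧ ∀ u ∈ spGL 2 F, u * x * u⁻¹ ∈ M}
      mul_mem' := fun a b => ⟨mul_mem a.1 b.1, fun u hu => by
        simpa [mul_assoc] using mul_mem (a.2 u hu) (b.2 u hu)⟩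
      one_mem' := ⟨one_mem _, by simp⟩
      inv_mem' := fun a => ⟨inv_mem a.1, fun u hu => by
        simpa [mul_assoc] using inv_mem (a.2 u hu)⟩ }
  have m : E 0 ∈ N := ⟨h.sp 0, fun u hu => by
    obtain ⟨k', hk', e'⟩ := h.exists_conj hO hS hu
    have q := (Fm.Iso.Q hk' _).trans (hS.Q_e 0)
    refine h.mem_of_r hO hS h3 (h1 ⟨Subgroup.le_normalizer hT.neg, hle hT.neg⟩) q
      (hK.main hF' ⟨hk, g, hg, 1, one_mul _, fun x => by rw [one_smul, e]⟩ hi q)
      (mul_mem (mul_mem hu (h.sp 0)) (inv_mem hu)) ?_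
    rw [Units.val_mul, Units.val_mul, ← φ_single, e', Units.mul_inv_cancel_right]⟩
  rcases hQ.simple N ⟨fun _ a => a.1, fun u hu x a => ⟨mul_mem (mul_mem hu a.1) (inv_mem hu),
    fun v hv => by simpa [mul_assoc] using a.2 _ (mul_mem hv hu)⟩⟩ with e | e
  · exact absurd (e m) ns
  · exact fun x hx => by simpa using (e.ge hx).2 1 (one_mem _)

end Cfsg.Agent.Class.Tab
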