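import Mathlib
import Cfsg.Agent.Class.C6P.InstSO

set_option autoImplicit false

namespace Cfsg.Agent.Class.Tab

/-- Class `C₆` in `Sp_8`. -/
theorem c6_sp8 {F : Type*} [Field F] [Fintype F] {p : ℕ} (hp : p.Prime) (ho : Odd p)
    (hF : Fintype.card F = p) (R : Subgroup (GL (Fin 4 ⊕ Fin 4) F))
    (hR : Geo.IsSymplecticTypeGroup 2 R) (hirr : Geo.ActsAbsolutelyIrreducibly (Geo.matrixSet R))
    (hle : R ≤ spGL 4 F) (_hc : Nat.card R = 128) (_hZ : Nat.card (Subgroup.center R) = 2)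
    (hm : Geo.IsOfMinusType 3 R) :
    Geo.IsMaximalIn (spGL 4 F) (Geo.subgroupNormalizer R ⊓ spGL 4 F) :=
  C6P.sp_isMaximalIn hp ho hF hR hirr hle (.inr ⟨le_rfl, hm⟩)

end Cfsg.Agent.Class.Tab
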